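import Groth.Prelude.Def_SGA5D
import Groth.Agent.Sga4h.RegFinal
import Groth.Agent.Sga4h.ExtCons

/-!
# `SGA5.IsDualizingCx` of a sheaf in degree zero from statements on sheaves

* `nonempty_HD_iso`: `H^i(RHom(F, C)) ≅ Ext^i(F, C)` for sheaves `F`, `C`;
* `isZero_HD_neg`: `H^i(RHom(F, C)) = 0` for `i < 0`;
* `qInjDimLE_iff`, `extConstructible_iff`;
* `isDualizingCx_of`: the constant sheaf is a dualizing complex if all constructible sheaves are `Dualizing` and
  there is a uniform bound for the local Ext sheaves.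

KERNEL SPEED: the equations `K = Q (single C)`, `E = single F` are kept as hypotheses as long as possible; passing from
the preadditive structure of the abelian structure to the one of the prelude is done in one variable at a time.
-/

set_option autoImplicit false

universe w v u

open CategoryTheory CategoryTheory.Limits AlgebraicGeometry HomologicalComplex

attribute [local instance] HasDerivedCategory.standard

namespace Groth.Agent.Sga5.H837.DualizingCx

open Groth.Agent.Sga4h

section B

attribute [local instance 5000] CategoryTheory.Abelian.toPreadditive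
  CategoryTheory.Preadditive.preadditiveHasZeroMorphisms
open scoped Groth.Agent.Sga4h.ModInst

/-- The homology of an object of the derived category given by a complex. -/
noncomputable def homIso {C : Type u} [Category.{v} C] [Abelian C] [HasDerivedCategory.{w} C] {K : DerivedCategory C}
    {L : CochainComplex C ℤ} (e : K ≅ DerivedCategory.Q.obj L) (k : ℤ) :
    (DerivedCategory.homologyFunctor C k).obj K ≅ L.homology k :=
  (DerivedCategory.homologyFunctor C k).mapIso e ≪≫ (DerivedCategory.homologyFunctorFactors C k).app L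

variable {Λ : Type (u + 1)} [CommRing Λ] {X : Scheme.{u}}

/-- The dual with respect to a sheaf in degree zero. -/
theorem exists_dualIso (C : EtModW.Mod Λ X) (K : EtModD.D Λ X)
    (hK : K = DerivedCategory.Q.obj ((CochainComplex.singleFunctor (EtModW.Mod Λ X) 0).obj C))
    (E : CochainComplex (EtModW.Mod Λ X) ℤ) [EtModD.HasLTensorCx E] [EtModD.HasRHom E] :
    ∃ (J : CochainComplex (EtModW.Mod Λ X) ℤ) (hJ : J.IsKInjective) (hJ' : ∀ n, Injective (J.X n))
      (i : (CochainComplex.singleFunctor (EtModW.Mod Λ X) 0).obj C ⟶ J) (_ : QuasiIso i),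
      Nonempty (EtModD.dual K E ≅ DerivedCategory.Q.obj ((DualEt.dualData J hJ hJ').D E)) := by
  subst hK
  obtain ⟨J, i, hJ, hJ', hi, -⟩ := DualEt.exists_kInj ((CochainComplex.singleFunctor (EtModW.Mod Λ X) 0).obj C)
  obtain ⟨e⟩ := DualQ.nonempty_dualIso J hJ hJ' E
  have hi' : IsIso (DerivedCategory.Q.map i) := inferInstance
  exact ⟨J, hJ, hJ', i, hi, ⟨(EtModD.RHom E).mapIso (asIso (DerivedCategory.Q.map i)) ≪≫ e⟩⟩

theorem nonempty_HD_iso_B (C F : EtModW.Mod Λ X) (K : EtModD.D Λ X)
    (hK : K = DerivedCategory.Q.obj ((CochainComplex.singleFunctor (EtModW.Mod Λ X) 0).obj C))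
    (E : CochainComplex (EtModW.Mod Λ X) ℤ) (hE : E = (CochainComplex.singleFunctor (EtModW.Mod Λ X) 0).obj F)
    [EtModD.HasLTensorCx E] [EtModD.HasRHom E] [EtModD.HasSheafHom F] (k : ℕ) (m : ℤ) (hm : (k : ℤ) = m) :
    Nonempty ((DerivedCategory.homologyFunctor _ m).obj (EtModD.dual K E) ≅ (EtModD.extSheaf F k).obj C) := by
  obtain ⟨J, hJ, hJ', i, hi, ⟨e⟩⟩ := exists_dualIso C K hK E
  subst hE
  obtain ⟨e'⟩ := DualQ.nonempty_homologyDSingle J hJ hJ' i hi F k m hm
  exact ⟨homIso e m ≪≫ e'⟩

theorem isZero_HD_neg_B (C F : EtModW.Mod Λ X) (K : EtModD.D Λ X)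
    (hK : K = DerivedCategory.Q.obj ((CochainComplex.singleFunctor (EtModW.Mod Λ X) 0).obj C))
    (E : CochainComplex (EtModW.Mod Λ X) ℤ) (hE : E = (CochainComplex.singleFunctor (EtModW.Mod Λ X) 0).obj F)
    [EtModD.HasLTensorCx E] [EtModD.HasRHom E] (m : ℤ) (hm : m < 0) :
    IsZero ((DerivedCategory.homologyFunctor (EtModW.Mod Λ X) m).obj (EtModD.dual K E)) := by
  obtain ⟨J, hJ, hJ', i, hi, ⟨e⟩⟩ := exists_dualIso C K hK E
  subst hE
  refine IsZero.of_iso ?_ (homIso e m)
  exact (exactAt_iff_isZero_homology _ _).1 (DualQ.exactAt_dual_single J hJ hJ' i hi F m hm)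

theorem isDbc_dual_B (C F : EtModW.Mod Λ X) (H : RegFinal.Dualizing C F) (K : EtModD.D Λ X)
    (hK : K = DerivedCategory.Q.obj ((CochainComplex.singleFunctor (EtModW.Mod Λ X) 0).obj C))
    (E : CochainComplex (EtModW.Mod Λ X) ℤ) (hE : E = (CochainComplex.singleFunctor (EtModW.Mod Λ X) 0).obj F)
    [EtModD.HasLTensorCx E] [EtModD.HasRHom E] : EtModD.IsDbc (EtModD.dual K E) := by
  obtain ⟨J, hJ, hJ', i, hi, ⟨e⟩⟩ := exists_dualIso C K hK E
  subst hE
  exact ObjectProperty.prop_of_iso _ e.symm (H.isDbc J hJ hJ' i hi)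

theorem isGE_B (C : EtModW.Mod Λ X) (K : EtModD.D Λ X)
    (hK : K = DerivedCategory.Q.obj ((CochainComplex.singleFunctor (EtModW.Mod Λ X) 0).obj C)) :
    ∃ a : ℤ, K.IsGE a := by
  subst hK
  exact ⟨0, inferInstance⟩

end B

variable {Λ : Type (u + 1)} [CommRing Λ] {X : Scheme.{u}}

theorem hasLTensorCx' (E : CochainComplex (EtModW.Mod Λ X) ℤ) : EtModD.HasLTensorCx E :=
  ModDLTensor.hasLTensorCx E

theorem hasRHom' (E : CochainComplex (EtModW.Mod Λ X) ℤ) [EtModD.HasLTensorCx E] :
    EtModD.HasRHom E := DualQ.hasRHom E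

theorem hasLTensorCx_single (F : EtModW.Mod Λ X) : EtModD.HasLTensorCx (SGA5.single F) :=
  hasLTensorCx' (SGA5.single F)

theorem hasRHom_single (F : EtModW.Mod Λ X) [EtModD.HasLTensorCx (SGA5.single F)] :
    EtModD.HasRHom (SGA5.single F) := hasRHom' (SGA5.single F)

section Aux

variable (C F : EtModW.Mod Λ X) (K : EtModD.D Λ X)
  (hK : K = DerivedCategory.Q.obj ((CochainComplex.singleFunctor (EtModW.Mod Λ X) 0).obj C))

include hK

theorem nonempty_HD_iso' [EtModD.HasLTensorCx (SGA5.single F)] [EtModD.HasRHom (SGA5.single F)]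
    [EtModD.HasSheafHom F] (k : ℕ) (m : ℤ) (hm : (k : ℤ) = m) :
    Nonempty (EtModD.HD (EtModD.dual K (SGA5.single F)) m ≅ (EtModD.extSheaf F k).obj C) :=
  nonempty_HD_iso_B C F K hK (SGA5.single F) rfl k m hm

theorem isZero_HD_neg' [EtModD.HasLTensorCx (SGA5.single F)] [EtModD.HasRHom (SGA5.single F)]
    (m : ℤ) (hm : m < 0) : IsZero (EtModD.HD (EtModD.dual K (SGA5.single F)) m) :=
  isZero_HD_neg_B C F K hK (SGA5.single F) rfl m hm

theorem isDbc_dual' (H : RegFinal.Dualizing C F) [EtModD.HasLTensorCx (SGA5.single F)]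
    [EtModD.HasRHom (SGA5.single F)] : EtModD.IsDbc (EtModD.dual K (SGA5.single F)) :=
  isDbc_dual_B C F H K hK (SGA5.single F) rfl

omit F

/-- Finite quasi-injective dimension of a sheaf in degree zero. -/
theorem qInjDimLE_iff' (N : ℕ) :
    SGA5.QInjDimLE K N ↔
      ∀ F : EtModW.Mod Λ X, EtModW.IsConstructible Λ F → ∀ i : ℕ, N < i →
        IsZero ((EtModD.extSheaf F i).obj C) := by
  constructor
  · intro h F hF i hi
    have h1 := hasLTensorCx_single F
    have h2 := hasRHom_single F
    obtain ⟨e⟩ := nonempty_HD_iso' C F K hK i i rfl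
    exact (h F hF i (by lia)).of_iso e.symm
  · intro h F _ _ hF i hi
    obtain ⟨k, rfl⟩ := Int.eq_ofNat_of_zero_le (a := i) (by lia)
    obtain ⟨e⟩ := nonempty_HD_iso' C F K hK k k rfl
    exact (h F hF k (by lia)).of_iso e

/-- The Ext-constructibility condition for a sheaf in degree zero. -/
theorem extConstructible_iff' :
    SGA5.ExtConstructible K ↔
      ∀ F : EtModW.Mod Λ X, EtModW.IsConstructible Λ F → ∀ i : ℕ,
        EtModW.IsConstructible Λ ((EtModD.extSheaf F i).obj C) := by
  constructor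
  · intro h F hF i
    have h1 := hasLTensorCx_single F
    have h2 := hasRHom_single F
    obtain ⟨e⟩ := nonempty_HD_iso' C F K hK i i rfl
    exact Etrest.ModCons.isConstructible_of_iso e (h F hF i)
  · intro h F _ _ hF i
    rcases lt_or_ge i 0 with hi | hi
    · exact ExtCons.isConstructible_of_isZero (isZero_HD_neg' C F K hK i hi)
    · obtain ⟨k, rfl⟩ := Int.eq_ofNat_of_zero_le hi
      obtain ⟨e⟩ := nonempty_HD_iso' C F K hK k k rfl
      exact Etrest.ModCons.isConstructible_of_iso e.symm (h F hF k)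

/-- From `Dualizing` for all constructible sheaves: the Ext-constructibility condition. -/
theorem extConstructible_of_dualizing'
    (H : ∀ F : EtModW.Mod Λ X, EtModW.IsConstructible Λ F → RegFinal.Dualizing C F) :
    SGA5.ExtConstructible K :=
  fun F _ _ hF i => (isDbc_dual' C F K hK (H F hF)).2 i

theorem isGE' : ∃ a : ℤ, K.IsGE a := isGE_B C K hK

end Aux

variable (C : EtModW.Mod Λ X)

/-- The cohomology sheaves of `RHom(F, C)` are the local Ext sheaves. -/
theorem nonempty_HD_iso (F : EtModW.Mod Λ X) [EtModD.HasLTensorCx (SGA5.single F)]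
    [EtModD.HasRHom (SGA5.single F)] [EtModD.HasSheafHom F] (k : ℕ) (m : ℤ) (hm : (k : ℤ) = m) :
    Nonempty (EtModD.HD (EtModD.dual (DerivedCategory.Q.obj (SGA5.single C)) (SGA5.single F)) m ≅
      (EtModD.extSheaf F k).obj C) :=
  nonempty_HD_iso' C F _ rfl k m hm

/-- The cohomology sheaves of `RHom(F, C)` vanish in negative degrees. -/
theorem isZero_HD_neg (F : EtModW.Mod Λ X) [EtModD.HasLTensorCx (SGA5.single F)]
    [EtModD.HasRHom (SGA5.single F)] (m : ℤ) (hm : m < 0) :
    IsZero (EtModD.HD (EtModD.dual (DerivedCategory.Q.obj (SGA5.single C)) (SGA5.single F)) m) :=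
  isZero_HD_neg' C F _ rfl m hm

/-- Finite quasi-injective dimension of a sheaf in degree zero. -/
theorem qInjDimLE_iff (N : ℕ) :
    SGA5.QInjDimLE (DerivedCategory.Q.obj (SGA5.single C)) N ↔
      ∀ F : EtModW.Mod Λ X, EtModW.IsConstructible Λ F → ∀ i : ℕ, N < i →
        IsZero ((EtModD.extSheaf F i).obj C) :=
  qInjDimLE_iff' C _ rfl N

/-- The Ext-constructibility condition for a sheaf in degree zero. -/
theorem extConstructible_iff :
    SGA5.ExtConstructible (DerivedCategory.Q.obj (SGA5.single C)) ↔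
      ∀ F : EtModW.Mod Λ X, EtModW.IsConstructible Λ F → ∀ i : ℕ,
        EtModW.IsConstructible Λ ((EtModD.extSheaf F i).obj C) :=
  extConstructible_iff' C _ rfl

/-- The sheaf `C` in degree zero is a dualizing complex if all constructible sheaves are `Dualizing` and there is a
uniform bound for the local Ext sheaves. -/
theorem isDualizingCx_of [IsNoetherianRing Λ]
    (H : ∀ F : EtModW.Mod Λ X, EtModW.IsConstructible Λ F → RegFinal.Dualizing C F) (N : ℕ)
    (hN : ∀ F : EtModW.Mod Λ X, EtModW.IsConstructible Λ F → ∀ i : ℕ, N < i →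
        IsZero ((EtModD.extSheaf F i).obj C)) :
    SGA5.IsDualizingCx (DerivedCategory.Q.obj (SGA5.single C)) :=
  ⟨isGE' C _ rfl, ⟨N, (qInjDimLE_iff C N).2 hN⟩, extConstructible_of_dualizing' C _ rfl H,
    fun F _ _ hF M _ _ hM => (RegFinal.final C H F hF M hM).2⟩

end Groth.Agent.Sga5.H837.DualizingCx
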