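import Groth.Agent.Sga4h.RegAsm
import Groth.Agent.Sga4h.LocNoeth539
import Groth.Agent.Sga5.H837.DualizingCx
import Groth.Agent.Sga5.H838.ExtClass

/-!
# The constant sheaf `ℤ/n` is a dualizing complex on Noetherian regular schemes of dimension at most one

No separatedness: everything is étale local.
-/

set_option autoImplicit false

universe u

open CategoryTheory CategoryTheory.Limits AlgebraicGeometry

attribute [local instance] HasDerivedCategory.standard

namespace Groth.Agent.Sga5.H837.RegNonSep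

open Groth.Agent.Sga4h

/-- Constructible sheaves are reflexive with bounded constructible dual. -/
theorem dualizing (n : ℕ) {S : Scheme.{u}} [IsNoetherian S]
    (hreg : ∀ s : S, IsRegularLocalRing (S.presheaf.stalk s))
    (hdim : ∀ s : S, ringKrullDim (S.presheaf.stalk s) ≤ 1) (hn : IsUnit (n : Γ(S, ⊤)))
    (F : EtModW.Mod (ULift.{u + 1} (ZMod n)) S)
    (hF : EtModW.IsConstructible (ULift.{u + 1} (ZMod n)) F) :
    RegFinal.Dualizing (EtModW.constMod (ULift.{u + 1} (ZMod n)) S (ULift.{u + 1} (ZMod n))) F := by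
  have := RegDev539.isNoetherianRing_zmod.{u} n
  refine LocNoeth539.locNoeth S F (fun x => ?_)
  obtain ⟨U, hU, hxU, -⟩ := exists_isAffineOpen_mem_and_subset (x := x) (U := (⊤ : S.Opens)) trivial
  have : IsAffine U := hU
  have hN : IsLocallyNoetherian U := isLocallyNoetherian_of_isOpenImmersion U.ι
  have hN' : IsNoetherian U := { }
  obtain ⟨hr, hd⟩ := X144Geo2.geo2 hreg hdim U.ι
  refine ⟨U, U.ι, inferInstance, ⟨x, hxU⟩, rfl, ?_⟩
  refine RegAsm.dualizing n LocNoeth539.locNoeth hr hd (KumExt250.isUnit_natCast_map U.ι.appTop.hom hn) _ ?_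
  exact Etrest.ModCons.isConstructible_of_iso ((RegPushFin539.pullIso (ULift.{u + 1} (ZMod n)) U.ι).app F)
    (Etcore.LCrit.isConstructible_pull U.ι F hF)

/-- The constant sheaf `ℤ/n` is a dualizing complex. -/
theorem isDualizingCx (n : ℕ) [NeZero n] {X : Scheme.{u}} [IsNoetherian X]
    (hreg : ∀ x : X, IsRegularLocalRing (X.presheaf.stalk x))
    (hdim : ∀ x : X, ringKrullDim (X.presheaf.stalk x) ≤ 1) (hn : IsUnit (n : Γ(X, ⊤))) :
    SGA5.IsDualizingCx (DerivedCategory.Q.obj (SGA5.single (SGA5.cst (ULift.{u + 1} (ZMod n)) X))) := by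
  have := RegDev539.isNoetherianRing_zmod.{u} n
  exact DualizingCx.isDualizingCx_of _ (fun F hF => dualizing n hreg hdim hn F hF) 2
    (fun F hF => Groth.Agent.Sga5.H838.ExtClass.extLE_two n hreg hdim hn F hF)

end Groth.Agent.Sga5.H837.RegNonSep
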